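import Mathlib

/-! # Field-theoretic lemmas for residue field extensions -/

set_option autoImplicit false
set_option linter.style.haveILetI false

namespace Groth.Agent.Lib.Helper18.AS

open Polynomial IntermediateField

/-- A field generated by a `p`-th root of a non-`p`-th power is purely inseparable of degree `p`. -/
theorem purelyInsep_of_root {k Q : Type*} [Field k] [Field Q] [Algebra k Q] (p : ℕ) (hp : p.Prime)
    [CharP k p] (θ : Q) (a : k) (hθ : θ ^ p = algebraMap k Q a) (ha : ∀ b : k, b ^ p ≠ a)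
    (hgen : ∀ S : Subfield Q, (∀ x, algebraMap k Q x ∈ S) → θ ∈ S → ∀ x, x ∈ S) :
    IsPurelyInseparable k Q ∧ Module.finrank k Q = p := by
  haveI : Fact p.Prime := ⟨hp⟩
  haveI : ExpChar k p := ExpChar.prime hp
  have htop : k⟮θ⟯ = ⊤ := by
    rw [eq_top_iff]
    intro x _
    exact hgen k⟮θ⟯.toSubfield (fun c => k⟮θ⟯.algebraMap_mem c) (mem_adjoin_simple_self k θ) x
  have hirr : Irreducible (X ^ p - C a : k[X]) := X_pow_sub_C_irreducible_of_prime hp ha
  have hroot : aeval θ (X ^ p - C a : k[X]) = 0 := by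
    rw [map_sub, map_pow, aeval_X, aeval_C, hθ, sub_self]
  have hint : IsIntegral k θ := ⟨X ^ p - C a, monic_X_pow_sub_C a hp.ne_zero, by
    rw [← aeval_def]; exact hroot⟩
  have hmin : minpoly k θ = X ^ p - C a :=
    (minpoly.eq_of_irreducible_of_monic hirr hroot (monic_X_pow_sub_C a hp.ne_zero)).symm
  have hfin : Module.finrank k k⟮θ⟯ = p := by
    rw [adjoin.finrank hint, hmin, natDegree_X_pow_sub_C]
  have hpi : IsPurelyInseparable k k⟮θ⟯ := by
    rw [isPurelyInseparable_adjoin_simple_iff_pow_mem k Q p]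
    exact ⟨1, by rw [pow_one, hθ]; exact ⟨a, rfl⟩⟩
  let e : k⟮θ⟯ ≃ₐ[k] Q := (equivOfEq htop).trans topEquiv
  refine ⟨?_, ?_⟩
  · haveI := hpi
    exact e.isPurelyInseparable
  · rw [← hfin]
    exact e.toLinearEquiv.finrank_eq.symm

end Groth.Agent.Lib.Helper18.AS
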