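import Mathlib
import Groth.Agent.Lib.Helper27.AS1

/-! # Artin–Schreier extensions: Galois of degree `1` or `p` -/

set_option autoImplicit false
set_option linter.style.haveILetI false

namespace Groth.Agent.Lib.Helper18.AS

open Polynomial IntermediateField

universe u

variable {p : ℕ} [hp : Fact p.Prime] {K L : Type u} [Field K] [Field L] [Algebra K L] [CharP K p]
  {ξ : K} {z : L}

theorem charP_L (K : Type u) [Field K] [CharP K p] (L : Type u) [Field L] [Algebra K L] :
    CharP L p := charP_of_injective_algebraMap (algebraMap K L).injective p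

theorem natCast_L_eq_zero (K : Type u) [Field K] [CharP K p] (L : Type u) [Field L] [Algebra K L] :
    ((p : ℕ) : L) = 0 := by
  haveI := charP_L (p := p) K L
  exact CharP.cast_eq_zero L p

/-- The Artin–Schreier polynomial. -/
noncomputable def asPoly (p : ℕ) {K : Type u} [Field K] (ξ : K) : K[X] := X ^ p - X - C ξ

theorem asPoly_monic (ξ : K) : (asPoly p ξ).Monic := by
  have h1 : (X ^ p - X : K[X]).Monic :=
    monic_X_pow_sub (by rw [degree_X]; exact_mod_cast hp.out.one_lt)
  have hdeg : (X ^ p - X : K[X]).natDegree = p := by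
    rw [natDegree_sub_eq_left_of_natDegree_lt
      (by rw [natDegree_X, natDegree_X_pow]; exact hp.out.one_lt), natDegree_X_pow]
  unfold asPoly
  refine h1.sub_of_left ?_
  rw [degree_eq_natDegree h1.ne_zero, hdeg]
  exact lt_of_le_of_lt degree_C_le (by exact_mod_cast hp.out.pos)

theorem asPoly_natDegree (ξ : K) : (asPoly p ξ).natDegree = p := by
  have h1 : (X ^ p - X : K[X]).Monic :=
    monic_X_pow_sub (by rw [degree_X]; exact_mod_cast hp.out.one_lt)
  have hdeg : (X ^ p - X : K[X]).natDegree = p := by
    rw [natDegree_sub_eq_left_of_natDegree_lt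
      (by rw [natDegree_X, natDegree_X_pow]; exact hp.out.one_lt), natDegree_X_pow]
  unfold asPoly
  rw [natDegree_sub_C, hdeg]

theorem asPoly_aeval (hz : z ^ p - z = algebraMap K L ξ) : aeval z (asPoly p ξ) = 0 := by
  unfold asPoly
  rw [map_sub, map_sub, map_pow, aeval_X, aeval_C, hz, sub_self]

theorem as_isIntegral (hz : z ^ p - z = algebraMap K L ξ) : IsIntegral K z :=
  ⟨asPoly p ξ, asPoly_monic ξ, by rw [← aeval_def]; exact asPoly_aeval hz⟩

theorem asPoly_map_eq (hz : z ^ p - z = algebraMap K L ξ) :
    (asPoly p ξ).map (algebraMap K L) = ∏ l ∈ Finset.range p, (X - C (z + (l : L))) := by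
  have h0 : ((p : ℕ) : L[X]) = 0 := by
    rw [← map_natCast (C : L →+* L[X]), natCast_L_eq_zero (p := p) K L, map_zero]
  have h := Groth.Agent.Lib.Helper27.AS.prod_range_sub_eq (R := L[X]) p h0 (X - C z)
  haveI : CharP L[X] p := by
    haveI := charP_L (p := p) K L
    infer_instance
  rw [sub_pow_char] at h
  unfold asPoly
  rw [Polynomial.map_sub, Polynomial.map_sub, Polynomial.map_pow, map_X, map_C, ← hz]
  have e1 : ∏ l ∈ Finset.range p, (X - C (z + (l : L))) =
      ∏ l ∈ Finset.range p, (X - C z - ((l : ℕ) : L[X])) := by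
    refine Finset.prod_congr rfl fun l _ => ?_
    rw [map_add, map_natCast, sub_sub]
  rw [e1, h, map_sub, map_pow]
  ring

theorem asPoly_separable (ξ : K) : (asPoly p ξ).Separable := by
  rw [separable_def']
  refine ⟨0, -1, ?_⟩
  unfold asPoly
  rw [derivative_sub, derivative_sub, derivative_X_pow, derivative_X, derivative_C]
  rw [CharP.cast_eq_zero K p, C_0]
  ring

theorem algebra_adjoin_eq_top (hz : z ^ p - z = algebraMap K L ξ) (hgen : K⟮z⟯ = ⊤) :
    Algebra.adjoin K {z} = ⊤ := by
  have h1 := adjoin_simple_toSubalgebra_of_isAlgebraic (as_isIntegral hz).isAlgebraic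
  rw [hgen] at h1
  rw [← h1]
  rfl

theorem as_finiteDimensional (hz : z ^ p - z = algebraMap K L ξ) (hgen : K⟮z⟯ = ⊤) :
    FiniteDimensional K L := by
  haveI : FiniteDimensional K K⟮z⟯ := adjoin.finiteDimensional (as_isIntegral hz)
  rw [hgen] at this
  exact LinearEquiv.finiteDimensional (topEquiv (F := K) (E := L)).toLinearEquiv

theorem as_isSplittingField (hz : z ^ p - z = algebraMap K L ξ) (hgen : K⟮z⟯ = ⊤) :
    (asPoly p ξ).IsSplittingField K L := by
  constructor
  · rw [asPoly_map_eq hz]
    exact Splits.prod fun l _ => Splits.X_sub_C _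
  · rw [eq_top_iff, ← algebra_adjoin_eq_top hz hgen]
    apply Algebra.adjoin_mono
    intro x hx
    rw [Set.mem_singleton_iff] at hx
    rw [hx, mem_rootSet]
    exact ⟨(asPoly_monic ξ).ne_zero, asPoly_aeval hz⟩

theorem as_isGalois (hz : z ^ p - z = algebraMap K L ξ) (hgen : K⟮z⟯ = ⊤) : IsGalois K L := by
  haveI := as_isSplittingField hz hgen
  exact IsGalois.of_separable_splitting_field (asPoly_separable ξ)

/-- Every root of the Artin–Schreier polynomial is a translate of `z`. -/
theorem exists_eq_add_of_root (hz : z ^ p - z = algebraMap K L ξ) {y : L}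
    (hy : y ^ p - y = algebraMap K L ξ) : ∃ l ∈ Finset.range p, y = z + (l : L) := by
  have h1 : ((asPoly p ξ).map (algebraMap K L)).eval y = 0 := by
    rw [eval_map, ← aeval_def]
    exact asPoly_aeval hy
  rw [asPoly_map_eq hz, eval_prod, Finset.prod_eq_zero_iff] at h1
  obtain ⟨l, hl, h2⟩ := h1
  refine ⟨l, hl, ?_⟩
  rw [eval_sub, eval_X, eval_C, sub_eq_zero] at h2
  exact h2

theorem as_finrank (hz : z ^ p - z = algebraMap K L ξ) (hgen : K⟮z⟯ = ⊤) :
    Module.finrank K L = 1 ∨ Module.finrank K L = p := by
  haveI := as_finiteDimensional hz hgen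
  haveI := as_isGalois hz hgen
  rw [← IsGalois.card_aut_eq_finrank K L]
  -- every automorphism translates `z`
  have htr : ∀ σ : Gal(L/K), ∃ l ∈ Finset.range p, σ z = z + (l : L) := by
    intro σ
    apply exists_eq_add_of_root hz
    rw [← map_pow, ← map_sub, hz, AlgEquiv.commutes]
  have hext : ∀ σ τ : Gal(L/K), σ z = τ z → σ = τ := by
    intro σ τ h
    have h1 : (σ : L →ₐ[K] L) = (τ : L →ₐ[K] L) := by
      apply AlgHom.ext_of_adjoin_eq_top (algebra_adjoin_eq_top hz hgen)
      intro x hx
      rw [Set.mem_singleton_iff] at hx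
      rw [hx]
      exact h
    exact AlgEquiv.coe_algHom_injective h1
  -- every element has order dividing `p`
  have hpow : ∀ σ : Gal(L/K), σ ^ p = 1 := by
    intro σ
    obtain ⟨l, -, hl⟩ := htr σ
    have hk : ∀ k : ℕ, (σ ^ k) z = z + (k : L) * (l : L) := by
      intro k
      induction k with
      | zero => simp
      | succ k ih =>
        rw [pow_succ', AlgEquiv.mul_apply, ih, map_add, map_mul, map_natCast, map_natCast, hl]
        push_cast
        ring
    apply hext
    rw [hk p, natCast_L_eq_zero (p := p) K L, zero_mul, add_zero]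
    rfl
  -- the group has at most `p` elements
  have hcard : Nat.card Gal(L/K) ≤ p := by
    classical
    let f : Gal(L/K) → Fin p := fun σ =>
      ⟨(htr σ).choose, Finset.mem_range.mp (htr σ).choose_spec.1⟩
    have hf : Function.Injective f := by
      intro σ τ h
      apply hext
      rw [(htr σ).choose_spec.2, (htr τ).choose_spec.2]
      have : (htr σ).choose = (htr τ).choose := congrArg Fin.val h
      rw [this]
    have := Nat.card_le_card_of_injective f hf
    rwa [Nat.card_fin] at this
  by_cases htriv : ∀ σ : Gal(L/K), σ = 1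
  · left
    haveI : Subsingleton Gal(L/K) := ⟨fun a b => (htriv a).trans (htriv b).symm⟩
    exact Nat.card_unique
  · right
    push_neg at htriv
    obtain ⟨σ, hσ⟩ := htriv
    have hord : orderOf σ = p := orderOf_eq_prime (hpow σ) hσ
    have h2 : p ≤ Nat.card Gal(L/K) := by
      rw [← hord]
      exact orderOf_le_card
    exact le_antisymm hcard h2

end Groth.Agent.Lib.Helper18.AS
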