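import Mathlib
import Groth.Prelude.Def_EtRam
import Groth.Agent.Lib.Helper18.AS.Galois
import Groth.Agent.Lib.Helper18.AS.FieldLemmas
import Groth.Agent.Lib.Helper18.Unram.Monogenic
import Groth.Agent.Lib.Helper18.Unram.Root
import Groth.Agent.Lib.Helper18.Eis.TotRam2

/-! # The ramification cases of an Artin–Schreier extension of the fraction field of a DVR -/

set_option autoImplicit false
set_option linter.style.haveILetI false

namespace Groth.Agent.Lib.Helper18.AS

open Polynomial IntermediateField IsLocalRing
open Groth.Agent.Lib.Helper18.Unram Groth.Agent.Lib.Helper18.Eis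

universe u

section Defs

variable (p : ℕ) (A K L : Type u) [CommRing A] [IsDomain A] [IsDiscreteValuationRing A] [Field K]
  [Algebra A K] [Field L] [Algebra K L] [Algebra A L]

def Case2 : Prop := EtRam.IsUnramifiedExt A (algebraMap A L) ∧ Module.finrank K L = p

def Case3 : Prop := EtRam.IsTotallyRamified A (algebraMap A L) ∧ Module.finrank K L = p

def Case4 : Prop :=
  (∃ V : ValuationSubring L, EtRam.Dominates A (algebraMap A L) V) ∧
  (∀ V V' : ValuationSubring L, EtRam.Dominates A (algebraMap A L) V →
    EtRam.Dominates A (algebraMap A L) V' → V = V') ∧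
  ∀ (V : ValuationSubring L) (h : EtRam.Dominates A (algebraMap A L) V),
    letI : Algebra A V := (RingHom.codRestrict (algebraMap A L) V h.1).toAlgebra
    ∀ [IsLocalHom (algebraMap A V)],
      EtRam.IsWeaklyUnramified A V ∧
        IsPurelyInseparable (IsLocalRing.ResidueField A) (IsLocalRing.ResidueField V) ∧
        Module.finrank (IsLocalRing.ResidueField A) (IsLocalRing.ResidueField V) = p

end Defs

section Monic

variable {R : Type*} [CommRing R] [Nontrivial R]

theorem monic_pow_sub_lin (p : ℕ) (hp : 1 < p) (c a : R) : (X ^ p - C c * X - C a : R[X]).Monic := by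
  have h1 : (X ^ p - C c * X - C a : R[X]) = X ^ p - (C c * X + C a) := by ring
  rw [h1]
  apply monic_X_pow_sub
  refine lt_of_le_of_lt (degree_linear_le) ?_
  exact_mod_cast hp

end Monic

variable {p : ℕ} [hp : Fact p.Prime] {A K L : Type u} [CommRing A] [IsDomain A]
  [IsDiscreteValuationRing A] [Field K] [Algebra A K] [IsFractionRing A K] [Field L] [Algebra K L]
  [Algebra A L] [IsScalarTower A K L] [CharP K p]

theorem natCast_A_eq_zero (A K : Type u) [CommRing A] [IsDomain A] [Field K] [Algebra A K]
    [IsFractionRing A K] [CharP K p] : ((p : ℕ) : A) = 0 := by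
  apply IsFractionRing.injective A K
  rw [map_natCast, map_zero, CharP.cast_eq_zero K p]

theorem charP_residue (A K : Type u) [CommRing A] [IsDomain A] [IsDiscreteValuationRing A]
    [Field K] [Algebra A K] [IsFractionRing A K] [CharP K p] : CharP (ResidueField A) p := by
  have h0 : ((p : ℕ) : ResidueField A) = 0 := by
    rw [← map_natCast (residue A), natCast_A_eq_zero (p := p) A K, map_zero]
  have hc : ringChar (ResidueField A) = p := CharP.ringChar_of_prime_eq_zero hp.out h0
  exact hc ▸ ringChar.charP (ResidueField A)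

/-- The weakly unramified conclusion in the form of the definition. -/
theorem weaklyUnramified_of_mono {π : A} {y : L} {Q : A[X]} (h : MonoData (K := K) π y Q)
    (V : ValuationSubring L) (hV : EtRam.Dominates A (algebraMap A L) V) :
    letI : Algebra A V := (RingHom.codRestrict (algebraMap A L) V hV.1).toAlgebra
    EtRam.IsWeaklyUnramified A V := by
  letI : Algebra A V := (RingHom.codRestrict (algebraMap A L) V hV.1).toAlgebra
  show Ideal.map (algebraMap A V) (maximalIdeal A) = maximalIdeal V
  have hπmem : π ∈ maximalIdeal A := (IsLocalRing.mem_maximalIdeal _).mpr h.hπ.not_isUnit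
  apply le_antisymm
  · rw [Ideal.map_le_iff_le_comap]
    intro a ha
    rw [Ideal.mem_comap, V.valuation_lt_one_iff]
    exact hV.2 a ha
  · intro x hx
    rw [V.valuation_lt_one_iff] at hx
    obtain ⟨w, hw, e⟩ := h.exists_eq_mul V hV (x : L) hx
    have : x = algebraMap A V π * ⟨w, hw⟩ := Subtype.ext (by rw [e]; rfl)
    rw [this]
    exact Ideal.mul_mem_right _ _ (Ideal.mem_map_of_mem _ hπmem)

/-- Case (A): `ξ` integral. -/
theorem caseA {ξ : K} {z : L} (hz : z ^ p - z = algebraMap K L ξ) (hgen : K⟮z⟯ = ⊤) (π : A)
    (hπ : Irreducible π) (a₀ : A) (ha₀ : algebraMap A K a₀ = ξ) :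
    Module.finrank K L = 1 ∨ Case2 p A K L := by
  rcases as_finrank hz hgen with h1 | hpdeg
  · exact Or.inl h1
  right
  refine ⟨?_, hpdeg⟩
  haveI hcharκ : CharP (ResidueField A) p := charP_residue (p := p) A K
  set Q : A[X] := X ^ p - C 1 * X - C a₀ with hQ
  have hQmap : Q.map (residue A) = asPoly p (residue A a₀) := by
    rw [hQ, asPoly]
    simp
  have hsep : (Q.map (residue A)).Separable := by
    rw [hQmap]; exact asPoly_separable _
  have hM : MonoData (K := K) π z Q :=
    { hπ := hπ
      monic := monic_pow_sub_lin p hp.out.one_lt 1 a₀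
      root := by
        rw [hQ, map_sub, map_sub, map_pow, map_mul, aeval_X, aeval_C, aeval_C, map_one, one_mul,
          IsScalarTower.algebraMap_apply A K L, ha₀, hz, sub_self]
      gen := algebra_adjoin_eq_top hz hgen
      red := by
        apply isReduced_adjoinRoot_of_fiberwise_squarefree _
          ((monic_pow_sub_lin p hp.out.one_lt 1 a₀).map _)
        intro 𝔭 _
        exact (hsep.map).squarefree }
  intro V hV
  letI algAV : Algebra A V := (RingHom.codRestrict (algebraMap A L) V hV.1).toAlgebra
  intro hloc
  refine ⟨weaklyUnramified_of_mono hM V hV, ?_⟩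
  -- the residue field is generated by the class of `z`, a root of a separable polynomial
  have hzV := hM.y_mem V hV
  set zbar : ResidueField V := residue V ⟨z, hzV⟩ with hzbar
  have hres : ∀ a : A, residue V ⟨algebraMap A L a, hV.1 a⟩ =
      algebraMap (ResidueField A) (ResidueField V) (residue A a) := fun a =>
    (ResidueField.algebraMap_residue a).symm
  have hzroot : aeval zbar (Q.map (residue A)) = 0 := by
    rw [hQmap, asPoly, map_sub, map_sub, map_pow, aeval_X, aeval_C, ← hres, hzbar, ← map_pow,
      ← map_sub, ← map_sub]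
    have : (⟨z, hzV⟩ ^ p - ⟨z, hzV⟩ - ⟨algebraMap A L a₀, hV.1 a₀⟩ : V) = 0 := by
      apply Subtype.ext
      show z ^ p - z - algebraMap A L a₀ = 0
      rw [IsScalarTower.algebraMap_apply A K L, ha₀, hz, sub_self]
    rw [this, map_zero]
  have hzsep : IsSeparable (ResidueField A) zbar := hsep.of_dvd (minpoly.dvd _ _ hzroot)
  rw [← separableClosure.eq_top_iff, eq_top_iff]
  intro x _
  refine hM.residue_mem V hV (separableClosure (ResidueField A) (ResidueField V)).toSubfield
    (fun a => ?_) ?_ x
  · rw [hres]
    exact (separableClosure (ResidueField A) (ResidueField V)).algebraMap_mem _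
  · exact mem_separableClosure_iff.mpr hzsep

/-- Case (C): pole order divisible by `p`, leading coefficient not a `p`-th power. -/
theorem caseC {ξ : K} {z : L} (hz : z ^ p - z = algebraMap K L ξ) (hgen : K⟮z⟯ = ⊤) (π : A)
    (hπ : Irreducible π) (n : ℕ) (a : A) (hn : 0 < n) (hpn : p ∣ n)
    (ha : ∀ r : A, residue A a ≠ residue A r ^ p)
    (hξ : ξ * algebraMap A K π ^ n = algebraMap A K a) : Case4 p A L := by
  obtain ⟨m, rfl⟩ := hpn
  have hmpos : 0 < m := Nat.pos_of_mul_pos_right hn |> fun h => by
    rcases Nat.eq_zero_or_pos m with h0 | h0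
    · rw [h0, mul_zero] at hn; omega
    · exact h0
  have hp1 := hp.out.one_lt
  haveI hcharκ : CharP (ResidueField A) p := charP_residue (p := p) A K
  have hπL0 : algebraMap A L π ≠ 0 := fun h0 =>
    hπ.ne_zero (algebraMap_injective' A K L (h0.trans (map_zero _).symm))
  set y : L := z * algebraMap A L π ^ m with hy
  set Q : A[X] := X ^ p - C (π ^ (p * m - m)) * X - C a with hQ
  have hexp : p * m - m + m = p * m := Nat.sub_add_cancel (Nat.le_mul_of_pos_left m hp.out.pos)
  have hξL : algebraMap K L ξ * algebraMap A L π ^ (p * m) = algebraMap A L a := by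
    rw [IsScalarTower.algebraMap_apply A K L, IsScalarTower.algebraMap_apply A K L, ← map_pow,
      ← map_mul, hξ]
  have hroot : y ^ p - algebraMap A L (π ^ (p * m - m)) * y - algebraMap A L a = 0 := by
    rw [hy, mul_pow, ← pow_mul, mul_comm m p, map_pow, ← hξL, ← hz]
    have : algebraMap A L π ^ (p * m - m) * (z * algebraMap A L π ^ m) =
        z * algebraMap A L π ^ (p * m) := by
      calc algebraMap A L π ^ (p * m - m) * (z * algebraMap A L π ^ m)
          = z * (algebraMap A L π ^ (p * m - m) * algebraMap A L π ^ m) := by ring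
        _ = z * algebraMap A L π ^ (p * m) := by rw [← pow_add, hexp]
    rw [this]
    ring
  have hpos' : 0 < p * m - m := by
    have : m < p * m := by
      calc m = 1 * m := (one_mul m).symm
        _ < p * m := Nat.mul_lt_mul_of_pos_right hp1 hmpos
    omega
  have hQmap : Q.map (residue A) = X ^ p - C (residue A a) := by
    rw [hQ]
    have h0 : residue A (π ^ (p * m - m)) = 0 := by
      rw [residue_eq_zero_iff]
      exact Ideal.pow_mem_of_mem _ ((IsLocalRing.mem_maximalIdeal _).mpr hπ.not_isUnit) _ hpos'
    rw [Polynomial.map_sub, Polynomial.map_sub, Polynomial.map_pow, Polynomial.map_mul, map_X,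
      map_C, map_C, h0, C_0, zero_mul, sub_zero]
  have hirr : Irreducible (X ^ p - C (residue A a) : (ResidueField A)[X]) := by
    apply X_pow_sub_C_irreducible_of_prime hp.out
    intro b
    obtain ⟨r, rfl⟩ := residue_surjective b
    exact (ha r).symm
  haveI : Fact (Irreducible (Q.map (residue A))) := ⟨by rw [hQmap]; exact hirr⟩
  have hF : IsField (AdjoinRoot (Q.map (residue A))) := (AdjoinRoot.instField).toIsField
  have hM : MonoData (K := K) π y Q :=
    { hπ := hπ
      monic := monic_pow_sub_lin p hp1 _ a
      root := by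
        rw [hQ, map_sub, map_sub, map_pow, map_mul, aeval_X, aeval_C, aeval_C]
        exact hroot
      gen := by
        rw [eq_top_iff, ← algebra_adjoin_eq_top hz hgen]
        apply Algebra.adjoin_le
        intro x hx
        rw [Set.mem_singleton_iff] at hx
        rw [hx]
        have hc : algebraMap A L π ^ m = algebraMap K L (algebraMap A K π ^ m) := by
          rw [map_pow, ← IsScalarTower.algebraMap_apply]
        have hz' : z = y * algebraMap K L ((algebraMap A K π ^ m)⁻¹) := by
          rw [hy, map_inv₀, ← hc, mul_assoc, mul_inv_cancel₀ (pow_ne_zero _ hπL0), mul_one]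
        rw [hz']
        exact Subalgebra.mul_mem _ (Algebra.subset_adjoin rfl) (Subalgebra.algebraMap_mem _ _)
      red := by
        haveI : IsDomain (AdjoinRoot (Q.map (residue A))) := hF.isDomain
        infer_instance }
  refine ⟨exists_dominates A K L, fun V V' hV hV' => hM.unique_of_isField hF V V' hV hV', ?_⟩
  intro V hV
  letI algAV : Algebra A V := (RingHom.codRestrict (algebraMap A L) V hV.1).toAlgebra
  intro hloc
  refine ⟨weaklyUnramified_of_mono hM V hV, ?_⟩
  have hyV := hM.y_mem V hV
  set ybar : ResidueField V := residue V ⟨y, hyV⟩ with hybar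
  have hres : ∀ a : A, residue V ⟨algebraMap A L a, hV.1 a⟩ =
      algebraMap (ResidueField A) (ResidueField V) (residue A a) := fun a =>
    (ResidueField.algebraMap_residue a).symm
  have hπres : residue V ⟨algebraMap A L (π ^ (p * m - m)), hV.1 _⟩ = 0 := by
    rw [residue_eq_zero_iff, V.valuation_lt_one_iff]
    exact hV.2 _ (Ideal.pow_mem_of_mem _ ((IsLocalRing.mem_maximalIdeal _).mpr hπ.not_isUnit) _
      hpos')
  have hypow : ybar ^ p = algebraMap (ResidueField A) (ResidueField V) (residue A a) := by
    rw [← hres, hybar, ← map_pow]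
    have : (⟨y, hyV⟩ ^ p : V) = ⟨algebraMap A L (π ^ (p * m - m)), hV.1 _⟩ * ⟨y, hyV⟩ +
        ⟨algebraMap A L a, hV.1 a⟩ := by
      apply Subtype.ext
      show y ^ p = algebraMap A L (π ^ (p * m - m)) * y + algebraMap A L a
      have := hroot
      rw [sub_sub, sub_eq_zero] at this
      exact this
    rw [this, map_add, map_mul, hπres, zero_mul, zero_add]
  have hnp : ∀ b : ResidueField A, b ^ p ≠ residue A a := by
    intro b
    obtain ⟨r, rfl⟩ := residue_surjective b
    exact (ha r).symm
  exact purelyInsep_of_root p hp.out ybar (residue A a) hypow hnp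
    (fun S hS₁ hS₂ x => hM.residue_mem V hV S (fun a' => by rw [hres]; exact hS₁ _) hS₂ x)

end Groth.Agent.Lib.Helper18.AS
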