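import Mathlib
import Groth.Prelude.Def_EtRam
import Groth.Agent.Lib.Helper18.AS.Cases

/-! # Artin–Schreier: pole order prime to `p` gives total ramification; the general four cases -/

set_option autoImplicit false
set_option linter.style.haveILetI false

namespace Groth.Agent.Lib.Helper18.AS

open Polynomial IntermediateField IsLocalRing
open Groth.Agent.Lib.Helper18.Unram Groth.Agent.Lib.Helper18.Eis

universe u

variable {p : ℕ} [hp : Fact p.Prime] {A K L : Type u} [CommRing A] [IsDomain A]
  [IsDiscreteValuationRing A] [Field K] [Algebra A K] [IsFractionRing A K] [Field L] [Algebra K L]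
  [Algebra A L] [IsScalarTower A K L] [CharP K p]

/-- The value of `z` when `ξ` has a pole of order `n`. -/
theorem val_z_pow {ξ : K} {z : L} (hz : z ^ p - z = algebraMap K L ξ) (π : A)
    (hπ : maximalIdeal A = Ideal.span {π}) (n : ℕ) (a : Aˣ) (hn : 0 < n)
    (hξ : ξ * algebraMap A K π ^ n = algebraMap A K a)
    (V : ValuationSubring L) (hV : EtRam.Dominates A (algebraMap A L) V) :
    V.valuation z ^ p * V.valuation (algebraMap A L π) ^ n = 1 := by
  have hp1 := hp.out.one_lt
  have hπmem : π ∈ maximalIdeal A := by rw [hπ]; exact Ideal.mem_span_singleton_self π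
  have hπlt : V.valuation (algebraMap A L π) < 1 := hV.2 π hπmem
  have hξL : algebraMap K L ξ * algebraMap A L π ^ n = algebraMap A L a := by
    rw [IsScalarTower.algebraMap_apply A K L, IsScalarTower.algebraMap_apply A K L, ← map_pow,
      ← map_mul, hξ]
  have hvξ : V.valuation (algebraMap K L ξ) * V.valuation (algebraMap A L π) ^ n = 1 := by
    rw [← map_pow, ← map_mul, hξL, val_unit V hV a]
  have hπn_lt : V.valuation (algebraMap A L π) ^ n < 1 := pow_lt_one₀ zero_le' hπlt hn.ne'
  have hξgt : 1 < V.valuation (algebraMap K L ξ) := by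
    by_contra hle
    rw [not_lt] at hle
    have : V.valuation (algebraMap K L ξ) * V.valuation (algebraMap A L π) ^ n < 1 :=
      mul_lt_one_of_nonneg_of_lt_one_right hle zero_le' hπn_lt
    exact this.ne hvξ
  have hzgt : 1 < V.valuation z := by
    by_contra hle
    rw [not_lt] at hle
    have h1 : V.valuation (z ^ p - z) ≤ 1 := by
      refine Valuation.map_sub_le (v := V.valuation) ?_ hle
      rw [map_pow]; exact pow_le_one₀ zero_le' hle
    rw [hz] at h1
    exact absurd hξgt (not_lt.mpr h1)
  have hzpow : V.valuation z < V.valuation (z ^ p) := by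
    rw [map_pow]
    calc V.valuation z = V.valuation z ^ 1 := (pow_one _).symm
      _ < V.valuation z ^ p := pow_lt_pow_right₀ hzgt hp1
  have hsub : V.valuation (z ^ p - z) = V.valuation (z ^ p) :=
    Valuation.map_sub_eq_of_lt_left _ hzpow
  rw [← map_pow, ← hsub, hz, hvξ]

/-- Case (B): pole order prime to `p`. -/
theorem caseB {ξ : K} {z : L} (hz : z ^ p - z = algebraMap K L ξ) (hgen : K⟮z⟯ = ⊤) (π : A)
    (hπ : maximalIdeal A = Ideal.span {π}) (n : ℕ) (a : Aˣ) (hn : 0 < n) (hpn : ¬ p ∣ n)
    (hξ : ξ * algebraMap A K π ^ n = algebraMap A K a) : Case3 p A K L := by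
  have hp1 := hp.out.one_lt
  have hirr : Irreducible π := (IsDiscreteValuationRing.irreducible_iff_uniformizer π).mpr hπ
  have hπmem : π ∈ maximalIdeal A := by rw [hπ]; exact Ideal.mem_span_singleton_self π
  have hπL0 : algebraMap A L π ≠ 0 := fun h0 =>
    hirr.ne_zero (algebraMap_injective' A K L (h0.trans (map_zero _).symm))
  have hcop : IsCoprime (p : ℤ) (n : ℤ) :=
    Nat.isCoprime_iff_coprime.mpr ((Nat.Prime.coprime_iff_not_dvd hp.out).mpr hpn)
  obtain ⟨s, t, hst⟩ := hcop
  -- `s * p + t * n = 1`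
  set θ : L := algebraMap A L π ^ s * z ^ (-t) with hθ
  obtain ⟨V₀, hV₀⟩ := exists_dominates A K L
  have hz0 : z ≠ 0 := by
    intro h0
    have := val_z_pow hz π hπ n a hn hξ V₀ hV₀
    rw [h0, map_zero, zero_pow hp.out.ne_zero, zero_mul] at this
    exact zero_ne_one this
  have hθ0 : θ ≠ 0 := mul_ne_zero (zpow_ne_zero _ hπL0) (zpow_ne_zero _ hz0)
  have hvalθ : ∀ V : ValuationSubring L, EtRam.Dominates A (algebraMap A L) V →
      V.valuation θ ^ p = V.valuation (algebraMap A L π) := by
    intro V hV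
    have h1 := val_z_pow hz π hπ n a hn hξ V hV
    have hπv0 : V.valuation (algebraMap A L π) ≠ 0 := (Valuation.ne_zero_iff _).mpr hπL0
    have hzv0 : V.valuation z ≠ 0 := (Valuation.ne_zero_iff _).mpr hz0
    have h2 : V.valuation z ^ p = V.valuation (algebraMap A L π) ^ (-(n : ℤ)) := by
      rw [zpow_neg, zpow_natCast]
      exact eq_inv_of_mul_eq_one_left h1
    have h3 : (V.valuation z ^ (-t)) ^ p = V.valuation (algebraMap A L π) ^ (-(n : ℤ) * -t) := by
      rw [← zpow_natCast (_ ^ (-t)) p, ← zpow_mul, mul_comm (-t) (p : ℤ), zpow_mul, zpow_natCast,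
        h2, ← zpow_mul]
    have h4 : (V.valuation (algebraMap A L π) ^ s) ^ p =
        V.valuation (algebraMap A L π) ^ (s * (p : ℤ)) := by
      rw [← zpow_natCast (_ ^ s) p, ← zpow_mul]
    rw [hθ, map_mul, map_zpow₀, map_zpow₀, mul_pow, h3, h4, ← zpow_add₀ hπv0]
    have : s * (p : ℤ) + -(n : ℤ) * -t = 1 := by rw [← hst]; ring
    rw [this, zpow_one]
  have hθnot : θ ∉ Set.range (algebraMap K L) := by
    rintro ⟨c, hc⟩
    have hc0 : c ≠ 0 := by
      intro h0; rw [h0, map_zero] at hc; exact hθ0 hc.symm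
    obtain ⟨m, hm, -⟩ := val_algebraMap_K π hπ V₀ hV₀ hc0
    have h1 := hvalθ V₀ hV₀
    rw [← hc, hm, ← zpow_natCast, ← zpow_mul] at h1
    have hπv0 : 0 < V₀.valuation (algebraMap A L π) :=
      zero_lt_iff.mpr ((Valuation.ne_zero_iff _).mpr hπL0)
    have hπlt : V₀.valuation (algebraMap A L π) < 1 := hV₀.2 π hπmem
    have h2 : m * (p : ℤ) = 1 := by
      apply zpow_right_injective₀ hπv0 hπlt.ne
      simp only
      rw [h1, zpow_one]
    have h3 : ((p : ℤ)) ∣ 1 := ⟨m, by rw [← h2]; ring⟩
    have h4 : (p : ℤ) ≤ 1 := Int.le_of_dvd one_pos h3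
    omega
  haveI := as_finiteDimensional hz hgen
  have hdeg : Module.finrank K L = p := by
    rcases as_finrank hz hgen with h1 | h1
    · exfalso
      have hbt : (⊥ : IntermediateField K L) = ⊤ := bot_eq_top_iff_finrank_eq_one.mpr h1
      have : θ ∈ (⊥ : IntermediateField K L) := by rw [hbt]; trivial
      exact hθnot (IntermediateField.mem_bot.mp this)
    · exact h1
  haveI : IsSimpleOrder (IntermediateField K L) :=
    isSimpleOrder_of_finrank_prime K L (by rw [hdeg]; exact hp.out)
  have htop : K⟮θ⟯ = ⊤ := by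
    rcases eq_bot_or_eq_top K⟮θ⟯ with h | h
    · exfalso
      have : θ ∈ (⊥ : IntermediateField K L) := by rw [← h]; exact mem_adjoin_simple_self K θ
      exact hθnot (IntermediateField.mem_bot.mp this)
    · exact h
  have hθint : IsIntegral K θ := Algebra.IsIntegral.isIntegral θ
  have htop' : Algebra.adjoin K {θ} = ⊤ := by
    have h1 := adjoin_simple_toSubalgebra_of_isAlgebraic hθint.isAlgebraic
    rw [htop] at h1
    exact h1.symm
  set pb : PowerBasis K L := PowerBasis.ofAdjoinEqTop hθint htop' with hpb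
  have hdim : pb.dim = p := by rw [← pb.finrank, hdeg]
  have hE : EisVal π pb :=
    { hπ := hπ
      hval := by
        intro V hV
        rw [hdim, hpb, PowerBasis.ofAdjoinEqTop_gen]
        exact hvalθ V hV }
  exact ⟨hE.isTotallyRamified, hdeg⟩

end Groth.Agent.Lib.Helper18.AS
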