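import Mathlib
import Groth.Prelude.Def_EtRam
import Groth.Agent.Lib.Helper18.AS.CaseB

/-! # Artin–Schreier: the four cases in general, by induction on the pole order -/

set_option autoImplicit false
set_option linter.style.haveILetI false

namespace Groth.Agent.Lib.Helper18.AS

open Polynomial IntermediateField IsLocalRing
open Groth.Agent.Lib.Helper18.Unram Groth.Agent.Lib.Helper18.Eis

universe u

variable {p : ℕ} [hp : Fact p.Prime] {A K L : Type u} [CommRing A] [IsDomain A]
  [IsDiscreteValuationRing A] [Field K] [Algebra A K] [IsFractionRing A K] [Field L] [Algebra K L]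
  [Algebra A L] [IsScalarTower A K L] [CharP K p]

theorem four_cases_aux (π : A) (hπ : maximalIdeal A = Ideal.span {π}) :
    ∀ n : ℕ, ∀ (ξ : K) (z : L), z ^ p - z = algebraMap K L ξ → K⟮z⟯ = ⊤ →
      (∃ a : A, ξ * algebraMap A K π ^ n = algebraMap A K a) →
      Module.finrank K L = 1 ∨ Case2 p A K L ∨ Case3 p A K L ∨ Case4 p A L := by
  have hirr : Irreducible π := (IsDiscreteValuationRing.irreducible_iff_uniformizer π).mpr hπ
  have hϖ : algebraMap A K π ≠ 0 := fun h0 =>
    hirr.ne_zero (IsFractionRing.injective A K (h0.trans (map_zero _).symm))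
  have hp1 := hp.out.one_lt
  intro n
  induction n using Nat.strong_induction_on with
  | _ n ih =>
    intro ξ z hz hgen ⟨a, ha⟩
    rcases Nat.eq_zero_or_pos n with h0 | hn
    · subst h0
      rw [pow_zero, mul_one] at ha
      rcases caseA hz hgen π hirr a ha.symm with h | h
      · exact Or.inl h
      · exact Or.inr (Or.inl h)
    by_cases hau : IsUnit a
    · obtain ⟨u, rfl⟩ := hau
      by_cases hpn : p ∣ n
      · by_cases hr : ∃ r : A, residue A (u : A) = residue A r ^ p
        · obtain ⟨r, hr⟩ := hr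
          obtain ⟨m, rfl⟩ := hpn
          have hmpos : 0 < m := by
            rcases Nat.eq_zero_or_pos m with h0 | h0
            · rw [h0, mul_zero] at hn; omega
            · exact h0
          have hmem : (u : A) - r ^ p ∈ maximalIdeal A := by
            rw [← residue_eq_zero_iff, map_sub, map_pow, hr, sub_self]
          rw [hπ, Ideal.mem_span_singleton] at hmem
          obtain ⟨c, hc⟩ := hmem
          have hlt : m < p * m := by
            calc m = 1 * m := (one_mul m).symm
              _ < p * m := Nat.mul_lt_mul_of_pos_right hp1 hmpos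
          obtain ⟨e2, he2⟩ : ∃ e2, p * m = m + (e2 + 1) := ⟨p * m - m - 1, by omega⟩
          obtain ⟨e1, he1⟩ : ∃ e1, p * m = e1 + 1 := ⟨p * m - 1, by omega⟩
          set ϖ : K := algebraMap A K π with hϖdef
          set ρ : K := algebraMap A K r with hρ
          set η : K := ρ / ϖ ^ m with hη
          have hηX : η * ϖ ^ m = ρ := div_mul_cancel₀ _ (pow_ne_zero _ hϖ)
          have hXY : (ϖ ^ m) ^ p = ϖ ^ m * ϖ ^ (e2 + 1) := by
            rw [← pow_mul, ← pow_add, mul_comm m p, he2]
          have hXp : ϖ ^ (p * m) = (ϖ ^ m) ^ p := by rw [← pow_mul, mul_comm m p]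
          haveI : CharP L p := charP_L (p := p) K L
          refine ih e1 (by omega) (ξ - η ^ p + η) (z - algebraMap K L η) ?_ ?_
            ⟨c + r * π ^ e2, ?_⟩
          · rw [sub_pow_char, ← map_pow, map_add, map_sub, ← hz]
            ring
          · rw [eq_top_iff, ← hgen, adjoin_simple_le_iff]
            have h1 := add_mem (mem_adjoin_simple_self K (z - algebraMap K L η))
              ((K⟮z - algebraMap K L η⟯).algebraMap_mem η)
            rwa [sub_add_cancel] at h1
          · apply mul_right_cancel₀ hϖ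
            have hcK : algebraMap A K (u : A) - ρ ^ p = ϖ * algebraMap A K c := by
              rw [hρ, ← map_pow, ← map_sub, hc, map_mul]
            calc (ξ - η ^ p + η) * ϖ ^ e1 * ϖ = (ξ - η ^ p + η) * ϖ ^ (p * m) := by
                  rw [he1, pow_succ, mul_assoc]
              _ = (ξ - η ^ p + η) * (ϖ ^ m) ^ p := by rw [hXp]
              _ = ξ * (ϖ ^ m) ^ p - (η * ϖ ^ m) ^ p + η * (ϖ ^ m) ^ p := by ring
              _ = ξ * (ϖ ^ m) ^ p - (η * ϖ ^ m) ^ p + η * ϖ ^ m * ϖ ^ (e2 + 1) := by
                  rw [hXY]; ring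
              _ = algebraMap A K (u : A) - ρ ^ p + ρ * ϖ ^ (e2 + 1) := by
                  rw [← hXp, ha, hηX]
              _ = ϖ * algebraMap A K c + ρ * ϖ ^ (e2 + 1) := by rw [hcK]
              _ = algebraMap A K (c + r * π ^ e2) * ϖ := by
                  rw [map_add, map_mul, map_pow, pow_succ]; ring
        · push_neg at hr
          exact Or.inr (Or.inr (Or.inr (caseC hz hgen π hirr n u hn hpn hr ha)))
      · exact Or.inr (Or.inr (Or.inl (caseB hz hgen π hπ n u hn hpn ha)))
    · have hmem : a ∈ maximalIdeal A := (mem_maximalIdeal a).mpr hau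
      rw [hπ, Ideal.mem_span_singleton] at hmem
      obtain ⟨a', rfl⟩ := hmem
      obtain ⟨e, he⟩ : ∃ e, n = e + 1 := ⟨n - 1, by omega⟩
      refine ih e (by omega) ξ z hz hgen ⟨a', ?_⟩
      apply mul_right_cancel₀ hϖ
      rw [mul_assoc, ← pow_succ, ← he, ha, map_mul, mul_comm]

/-- Every Artin–Schreier extension of the fraction field of a DVR falls under one of the four
cases. -/
theorem four_cases (π : A) (hπ : maximalIdeal A = Ideal.span {π}) {ξ : K} {z : L}
    (hz : z ^ p - z = algebraMap K L ξ) (hgen : K⟮z⟯ = ⊤) :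
    Module.finrank K L = 1 ∨ Case2 p A K L ∨ Case3 p A K L ∨ Case4 p A L := by
  have hirr : Irreducible π := (IsDiscreteValuationRing.irreducible_iff_uniformizer π).mpr hπ
  obtain ⟨a, ⟨b, hb⟩, hab⟩ := IsLocalization.exists_mk'_eq (nonZeroDivisors A) ξ
  have hb0 : b ≠ 0 := nonZeroDivisors.ne_zero hb
  obtain ⟨n, u, hu⟩ := IsDiscreteValuationRing.eq_unit_mul_pow_irreducible hb0 hirr
  refine four_cases_aux π hπ n ξ z hz hgen ⟨a * ((u⁻¹ : Aˣ) : A), ?_⟩
  rw [← hab, map_mul]
  have hbK : algebraMap A K b ≠ 0 := fun h0 =>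
    hb0 (IsFractionRing.injective A K (h0.trans (map_zero _).symm))
  have h1 : IsLocalization.mk' K a ⟨b, hb⟩ * algebraMap A K b = algebraMap A K a :=
    IsLocalization.mk'_spec K a ⟨b, hb⟩
  have h2 : algebraMap A K π ^ n = algebraMap A K b * algebraMap A K ((u⁻¹ : Aˣ) : A) := by
    rw [hu, map_mul, map_pow]
    have : algebraMap A K (u : A) * algebraMap A K ((u⁻¹ : Aˣ) : A) = 1 := by
      rw [← map_mul, Units.mul_inv, map_one]
    calc algebraMap A K π ^ n = algebraMap A K π ^ n *
          (algebraMap A K (u : A) * algebraMap A K ((u⁻¹ : Aˣ) : A)) := by rw [this, mul_one]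
      _ = _ := by ring
  rw [h2, ← mul_assoc, h1]

end Groth.Agent.Lib.Helper18.AS
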